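import Mathlib

/-!
# S4908, `M₁₂`: the chief factors of characteristic at least five, counting part (helper394)

`count` : a group of order 95040 with at most 7128 involutions, every noninvolution `g ≠ 1` generating it with one conjugate
and every `g ≠ 1` with two conjugates, has no representation of degree at least 7 over the field with `r ≥ 5` elements in
which the stabilizers of the nonzero vectors are proper of order at least 218.
-/

set_option autoImplicit false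

namespace Cfsg.Agent.H394.S8

open Subgroup

universe u v

section

variable {X : Type v} [Group X] {Λ : Type u} [CommGroup Λ] (ρ : X →* MulAut Λ) (E : Subgroup Λ)

/-- the fixed points of `g` in `E` -/
def fx (g : X) : Subgroup Λ where
  carrier := {x | x ∈ E ∧ ρ g x = x}
  one_mem' := ⟨one_mem _, map_one _⟩
  mul_mem' := fun {a b} ha hb => ⟨mul_mem ha.1 hb.1, by rw [map_mul, ha.2, hb.2]⟩
  inv_mem' := fun {a} ha => ⟨inv_mem ha.1, by rw [map_inv, ha.2]⟩

theorem mem_fx {g : X} {x : Λ} : x ∈ fx ρ E g ↔ x ∈ E ∧ ρ g x = x := Iff.rfl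

theorem fx_le (g : X) : fx ρ E g ≤ E := fun _ h => h.1

theorem fx_one : fx ρ E 1 = E := by
  ext x
  rw [mem_fx, map_one]
  exact ⟨fun h => h.1, fun h => ⟨h, rfl⟩⟩

variable {ρ E}

theorem card_conj (hE : ∀ g, ∀ x ∈ E, ρ g x ∈ E) (g h : X) :
    Nat.card (fx ρ E (h * g * h⁻¹)) = Nat.card (fx ρ E g) := by
  refine Nat.card_congr ⟨fun x => ⟨ρ h⁻¹ x, hE _ _ x.2.1, ?_⟩, fun x => ⟨ρ h x, hE _ _ x.2.1, ?_⟩, ?_, ?_⟩
  · have h1 := x.2.2
    rw [map_mul, map_mul, MulAut.mul_apply, MulAut.mul_apply] at h1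
    have h2 := congrArg (ρ h⁻¹) h1
    rw [← MulAut.mul_apply, ← map_mul, inv_mul_cancel, map_one, MulAut.one_apply] at h2
    exact h2
  · have h1 := x.2.2
    have h2 : ρ h⁻¹ (ρ h x) = x := by rw [← MulAut.mul_apply, ← map_mul, inv_mul_cancel, map_one, MulAut.one_apply]
    rw [map_mul, map_mul, MulAut.mul_apply, MulAut.mul_apply, h2, h1]
  · intro x
    apply Subtype.ext
    change ρ h (ρ h⁻¹ x) = x
    rw [← MulAut.mul_apply, ← map_mul, mul_inv_cancel, map_one, MulAut.one_apply]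
  · intro x
    apply Subtype.ext
    change ρ h⁻¹ (ρ h x) = x
    rw [← MulAut.mul_apply, ← map_mul, inv_mul_cancel, map_one, MulAut.one_apply]

theorem fix_of_closure {s : Set X} {x : Λ} (h : ∀ g ∈ s, ρ g x = x) {g : X} (hg : g ∈ closure s) : ρ g x = x := by
  induction hg using closure_induction with
  | mem g hg => exact h g hg
  | one => rw [map_one]; rfl
  | mul a b _ _ ha hb => rw [map_mul, MulAut.mul_apply, hb, ha]
  | inv a _ ha =>
    have h2 := congrArg (ρ a⁻¹) ha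
    rw [← MulAut.mul_apply, ← map_mul, inv_mul_cancel, map_one, MulAut.one_apply] at h2
    exact h2.symm

/-- indices in a group of prime power order -/
theorem pow_of_relIndex {r n : ℕ} (hr : r.Prime) (hcard : Nat.card E = r ^ n) {A : Subgroup Λ} (hA : A ≤ E) :
    ∃ j, Nat.card A * r ^ j = Nat.card E ∧ A.relIndex E = r ^ j := by
  have h1 : Nat.card A * A.relIndex E = Nat.card E := by
    rw [relIndex, ← Nat.card_congr (subgroupOfEquivOfLe hA).toEquiv]
    exact card_mul_index _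
  obtain ⟨j, -, hj⟩ := (Nat.dvd_prime_pow hr).1 (show A.relIndex E ∣ r ^ n by rw [← hcard, ← h1]; exact dvd_mul_left _ _)
  exact ⟨j, by rw [← hj, h1], hj⟩

/-- two conjugates generate: the index is at least `5 ^ 4` -/
theorem two_bound {r n : ℕ} (hr : r.Prime) (h5 : 5 ≤ r) (hcard : Nat.card E = r ^ n) (h7 : 7 ≤ n)
    (hE : ∀ g, ∀ x ∈ E, ρ g x ∈ E) (hfix : ∀ x : Λ, (∀ g, ρ g x = x) → x = 1) {g h : X}
    (hgen : closure {g, h * g * h⁻¹} = ⊤) : 625 * Nat.card (fx ρ E g) ≤ Nat.card E := by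
  obtain ⟨j, h1, h2⟩ := pow_of_relIndex hr hcard (fx_le ρ E g)
  obtain ⟨j', h1', h2'⟩ := pow_of_relIndex hr hcard (fx_le ρ E (h * g * h⁻¹))
  have hpos : 0 < Nat.card E := by rw [hcard]; exact pow_pos hr.pos _
  have hbot : fx ρ E g ⊓ fx ρ E (h * g * h⁻¹) = ⊥ := by
    rw [eq_bot_iff]
    intro x hx
    refine mem_bot.2 (hfix x fun y => fix_of_closure (s := {g, h * g * h⁻¹}) ?_ (by rw [hgen]; exact mem_top y))
    rintro z (rfl | rfl)
    · exact hx.1.2
    · exact hx.2.2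
  have hj : j' = j := by
    rw [card_conj hE] at h1'
    have h3 : Nat.card (fx ρ E g) ≠ 0 := by
      intro h0
      rw [h0, zero_mul] at h1
      omega
    exact Nat.pow_right_injective hr.two_le (Nat.eq_of_mul_eq_mul_left (Nat.pos_of_ne_zero h3) (h1'.trans h1.symm))
  have h3 : (fx ρ E g ⊓ fx ρ E (h * g * h⁻¹)).relIndex E ≤ _ := relIndex_inf_le
  rw [hbot, relIndex_bot_left, hcard, h2, h2', hj, ← pow_add] at h3
  have h4 := (Nat.pow_le_pow_iff_right hr.one_lt).1 h3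
  have h6 : 5 ^ 4 ≤ r ^ j := (Nat.pow_le_pow_left h5 4).trans (Nat.pow_le_pow_right hr.pos (by omega))
  rw [← h1, mul_comm]
  exact Nat.mul_le_mul_left _ (by omega)

/-- three conjugates generate: the index is at least `5 ^ 3` -/
theorem three_bound {r n : ℕ} (hr : r.Prime) (h5 : 5 ≤ r) (hcard : Nat.card E = r ^ n) (h7 : 7 ≤ n)
    (hE : ∀ g, ∀ x ∈ E, ρ g x ∈ E) (hfix : ∀ x : Λ, (∀ g, ρ g x = x) → x = 1) {g h k : X}
    (hgen : closure {g, h * g * h⁻¹, k * g * k⁻¹} = ⊤) : 125 * Nat.card (fx ρ E g) ≤ Nat.card E := by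
  obtain ⟨j, h1, h2⟩ := pow_of_relIndex hr hcard (fx_le ρ E g)
  have hpos : 0 < Nat.card E := by rw [hcard]; exact pow_pos hr.pos _
  have hj : ∀ y : X, (fx ρ E (y * g * y⁻¹)).relIndex E = r ^ j := by
    intro y
    obtain ⟨j', h1', h2'⟩ := pow_of_relIndex hr hcard (fx_le ρ E (y * g * y⁻¹))
    rw [card_conj hE] at h1'
    have h3 : Nat.card (fx ρ E g) ≠ 0 := by
      intro h0
      rw [h0, zero_mul] at h1
      omega
    rw [h2', Nat.eq_of_mul_eq_mul_left (Nat.pos_of_ne_zero h3) (h1'.trans h1.symm)]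
  have hbot : fx ρ E g ⊓ (fx ρ E (h * g * h⁻¹) ⊓ fx ρ E (k * g * k⁻¹)) = ⊥ := by
    rw [eq_bot_iff]
    intro x hx
    refine mem_bot.2 (hfix x fun y => fix_of_closure (s := {g, h * g * h⁻¹, k * g * k⁻¹}) ?_
      (by rw [hgen]; exact mem_top y))
    rintro z (rfl | rfl | rfl)
    · exact hx.1.2
    · exact hx.2.1.2
    · exact hx.2.2.2
  have h3 : (fx ρ E g ⊓ (fx ρ E (h * g * h⁻¹) ⊓ fx ρ E (k * g * k⁻¹))).relIndex E ≤ _ := relIndex_inf_le
  have h3' : (fx ρ E (h * g * h⁻¹) ⊓ fx ρ E (k * g * k⁻¹)).relIndex E ≤ _ := relIndex_inf_le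
  rw [hj, hj] at h3'
  rw [hbot, relIndex_bot_left, hcard, h2] at h3
  have h3'' := h3.trans (Nat.mul_le_mul_left _ h3')
  rw [← pow_add, ← pow_add] at h3''
  have h4 := (Nat.pow_le_pow_iff_right hr.one_lt).1 h3''
  have h6 : 5 ^ 3 ≤ r ^ j := (Nat.pow_le_pow_left h5 3).trans (Nat.pow_le_pow_right hr.pos (by omega))
  rw [← h1, mul_comm]
  exact Nat.mul_le_mul_left _ (by omega)

/-- **the count** -/
theorem count [Finite X] [Finite Λ] (hc : Nat.card X = 95040) (h2 : Nat.card {g : X // g ^ 2 = 1 ∧ g ≠ 1} ≤ 7128)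
    (hg2 : ∀ g : X, g ^ 2 ≠ 1 → ∃ h, closure {g, h * g * h⁻¹} = ⊤)
    (hg3 : ∀ g : X, g ≠ 1 → ∃ h k, closure {g, h * g * h⁻¹, k * g * k⁻¹} = ⊤)
    (hst : ∀ x : Λ, x ≠ 1 → ∃ T : Subgroup X, (∀ g, g ∈ T ↔ ρ g x = x) ∧ T ≠ ⊤ ∧ 218 ≤ Nat.card T)
    (hE : ∀ g, ∀ x ∈ E, ρ g x ∈ E) {r n : ℕ} (hr : r.Prime) (h5 : 5 ≤ r) (hcard : Nat.card E = r ^ n)
    (h7 : 7 ≤ n) : False := by
  classical
  have := Fintype.ofFinite X
  have := Fintype.ofFinite Λ
  have hpos : 0 < Nat.card E := by rw [hcard]; exact pow_pos hr.pos _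
  have hfix : ∀ x : Λ, (∀ g, ρ g x = x) → x = 1 := by
    intro x hx
    by_contra hx1
    obtain ⟨T, hT, hT1, -⟩ := hst x hx1
    exact hT1 (eq_top_iff.2 fun g _ => (hT g).2 (hx g))
  -- the two sides of the double count
  have hA : ∀ g : X, (∑ x : E, if ρ g (x : Λ) = x then 1 else 0) = Nat.card (fx ρ E g) := by
    intro g
    rw [Finset.sum_boole, Nat.cast_id, ← Fintype.card_subtype, ← Nat.card_eq_fintype_card]
    exact Nat.card_congr ⟨fun x => ⟨x.1, x.1.2, x.2⟩, fun x => ⟨⟨x.1, x.2.1⟩, x.2.2⟩, fun _ => rfl, fun _ => rfl⟩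
  have hB : ∀ x : E, 218 ≤ ∑ g : X, if ρ g (x : Λ) = x then 1 else 0 := by
    intro x
    rw [Finset.sum_boole, Nat.cast_id, ← Fintype.card_subtype, ← Nat.card_eq_fintype_card]
    by_cases hx : (x : Λ) = 1
    · have h3 : Nat.card {g : X // ρ g (x : Λ) = x} = Nat.card X :=
        Nat.card_congr ⟨fun g => g.1, fun g => ⟨g, by rw [hx, map_one]⟩, fun _ => rfl, fun _ => rfl⟩
      rw [h3, hc]
      norm_num
    · obtain ⟨T, hT, -, h4⟩ := hst x hx
      have h3 : Nat.card {g : X // ρ g (x : Λ) = x} = Nat.card T :=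
        Nat.card_congr ⟨fun g => ⟨g.1, (hT _).2 g.2⟩, fun g => ⟨g.1, (hT _).1 g.2⟩, fun _ => rfl, fun _ => rfl⟩
      rw [h3]
      exact h4
  have hsum : ∑ g : X, Nat.card (fx ρ E g) = ∑ x : E, ∑ g : X, if ρ g (x : Λ) = x then 1 else 0 := by
    rw [Finset.sum_comm]
    exact Finset.sum_congr rfl fun g _ => (hA g).symm
  have hlow : Nat.card E * 218 ≤ ∑ g : X, Nat.card (fx ρ E g) := by
    rw [hsum, Nat.card_eq_fintype_card, ← Finset.card_univ, ← smul_eq_mul]
    exact Finset.card_nsmul_le_sum _ _ _ fun x _ => hB x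
  -- the upper bound
  have hup : ∀ g : X, 625 * Nat.card (fx ρ E g) ≤
      (1 + (if g ^ 2 = 1 ∧ g ≠ 1 then 4 else 0) + (if g = 1 then 624 else 0)) * Nat.card E := by
    intro g
    by_cases hg1 : g = 1
    · subst hg1
      rw [fx_one, if_neg (by simp), if_pos rfl]
    · rw [if_neg hg1, add_zero]
      by_cases hg : g ^ 2 = 1
      · rw [if_pos ⟨hg, hg1⟩]
        obtain ⟨h, k, hhk⟩ := hg3 g hg1
        have h3 := three_bound hr h5 hcard h7 hE hfix hhk
        omega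
      · rw [if_neg fun h => hg h.1, add_zero, one_mul]
        obtain ⟨h, hh⟩ := hg2 g hg
        exact two_bound hr h5 hcard h7 hE hfix hh
  have hup' : 625 * ∑ g : X, Nat.card (fx ρ E g) ≤ (95040 + 4 * 7128 + 624) * Nat.card E := by
    rw [Finset.mul_sum]
    refine (Finset.sum_le_sum fun g _ => hup g).trans ?_
    rw [← Finset.sum_mul]
    refine Nat.mul_le_mul_right _ ?_
    rw [Finset.sum_add_distrib, Finset.sum_add_distrib, Finset.sum_const, smul_eq_mul, mul_one, Finset.card_univ,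
      ← Nat.card_eq_fintype_card, hc, Finset.sum_ite_eq' Finset.univ (1 : X) (fun _ => 624)]
    have h3 : (∑ g : X, if g ^ 2 = 1 ∧ g ≠ 1 then 4 else 0) = 4 * Nat.card {g : X // g ^ 2 = 1 ∧ g ≠ 1} := by
      rw [← Finset.sum_filter, Finset.sum_const, smul_eq_mul, mul_comm, Nat.card_eq_fintype_card, Fintype.card_subtype]
    rw [h3, if_pos (Finset.mem_univ _)]
    omega
  have h8 : 625 * (Nat.card E * 218) ≤ (95040 + 4 * 7128 + 624) * Nat.card E :=
    (Nat.mul_le_mul_left _ hlow).trans hup'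
  omega

end

end Cfsg.Agent.H394.S8
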