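import Cfsg.Agent.H36.M12.Odd
import Cfsg.Agent.H36.M12.Low
import Cfsg.Agent.H394.S8.MTwelveC

/-!
# S4908, `M₁₂`: no noncentral chief factor of characteristic at least five (helper394)
-/

set_option autoImplicit false

namespace Cfsg.Agent.H394.S8

open Subgroup Cfsg

universe u v

section

variable {X : Type v} [Group X] {Λ : Type u} [CommGroup Λ] (ρ : X →* MulAut Λ) {E : Subgroup Λ}

/-- the action on an invariant subgroup -/
def restr (hE : ∀ g, ∀ x ∈ E, ρ g x ∈ E) : X →* Monoid.End E where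
  toFun g := ((ρ g).toMonoidHom.comp E.subtype).codRestrict E fun x => hE g x x.2
  map_one' := by
    ext x
    change ρ 1 (x : Λ) = x
    rw [map_one]
    rfl
  map_mul' a b := by
    ext x
    change ρ (a * b) (x : Λ) = ρ a (ρ b x)
    rw [map_mul, MulAut.mul_apply]

/-- the representation on an invariant subgroup of exponent `r` -/
def lin (hE : ∀ g, ∀ x ∈ E, ρ g x ∈ E) (r : ℕ) [Module (ZMod r) (Additive E)] :
    X →* Module.End (ZMod r) (Additive E) where
  toFun g := AddMonoidHom.toZModLinearMap r (MonoidHom.toAdditive (restr ρ hE g))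
  map_one' := by
    ext x
    rw [map_one]
    rfl
  map_mul' a b := by
    ext x
    rw [map_mul]
    rfl

/-- the order is at least `r ^ 7` -/
theorem seven_le (e : X ≃* Spor.M12) (hE : ∀ g, ∀ x ∈ E, ρ g x ∈ E) {r n : ℕ} [hr : Fact r.Prime] (h5 : 5 ≤ r)
    [Finite E] (M : Module (ZMod r) (Additive E)) (hn : Nat.card E = r ^ n)
    (hne : restr ρ hE (e.symm H36.M12.gt) ≠ 1) : 7 ≤ n := by
  have hfE : Finite (Additive E) := inferInstanceAs (Finite E)
  haveI hfin : Module.Finite (ZMod r) (Additive E) := Module.Finite.of_finite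
  have hcard : Nat.card (Additive E) = r ^ Module.finrank (ZMod r) (Additive E) := by
    rw [Module.natCard_eq_pow_finrank (K := ZMod r), Nat.card_zmod]
  have hnf : n = Module.finrank (ZMod r) (Additive E) := by
    refine Nat.pow_right_injective hr.out.two_le ?_
    change r ^ n = r ^ _
    rw [← hcard, ← hn]
    rfl
  rw [hnf]
  refine H36.M12.seven_le_finrank (F := ZMod r) (V := Additive E) ((lin ρ hE r).comp e.symm.toMonoidHom)
    (fun h => ?_) (fun h0 => hne ?_)
  · have h3 : ((2 : ℕ) : ZMod r) = 0 := by exact_mod_cast h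
    rw [ZMod.natCast_eq_zero_iff] at h3
    have := Nat.le_of_dvd (by norm_num) h3
    omega
  · ext y
    have h3 : lin ρ hE r (e.symm H36.M12.gt) (Additive.ofMul y) = Additive.ofMul y := by
      have h4 : lin ρ hE r (e.symm H36.M12.gt) = 1 := h0
      rw [h4]
      rfl
    exact congrArg (fun z : Additive E => (z.toMul : Λ)) h3

end

/-- **characteristic at least five** -/
theorem chief_five {X : Type v} [Group X] [Finite X] [hsim : IsSimpleGroup X] (e : X ≃* Spor.M12)
    (hc : Nat.card X = 95040) (h2 : Nat.card {g : X // g ^ 2 = 1 ∧ g ≠ 1} ≤ 7128)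
    (hg2 : ∀ g : X, g ^ 2 ≠ 1 → ∃ h, closure {g, h * g * h⁻¹} = ⊤)
    (hg3 : ∀ g : X, g ≠ 1 → ∃ h k, closure {g, h * g * h⁻¹, k * g * k⁻¹} = ⊤)
    {Λ : Type u} [CommGroup Λ] [Finite Λ] (ρ : X →* MulAut Λ)
    (hst : ∀ x : Λ, x ≠ 1 → ∃ T : Subgroup X, (∀ g, g ∈ T ↔ ρ g x = x) ∧ T ≠ ⊤ ∧
      Nat.card X < 2 * (Nat.card T * Nat.card (ConjClasses T)))
    {r : ℕ} (hr : r.Prime) (h5 : 5 ≤ r) (x : Λ) (hx : x ^ r = 1) : x = 1 := by
  by_contra hx1
  have hrF : Fact r.Prime := ⟨hr⟩
  let E : Subgroup Λ := (powMonoidHom r : Λ →* Λ).ker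
  have hEm : ∀ y, y ∈ E ↔ y ^ r = 1 := fun y => MonoidHom.mem_ker
  have hE : ∀ g, ∀ y ∈ E, ρ g y ∈ E := by
    intro g y hy
    rw [hEm] at hy ⊢
    rw [← map_pow, hy, map_one]
  have hst' : ∀ x : Λ, x ≠ 1 → ∃ T : Subgroup X, (∀ g, g ∈ T ↔ ρ g x = x) ∧ T ≠ ⊤ ∧ 218 ≤ Nat.card T := by
    intro x hx
    obtain ⟨T, h1, h3, h4⟩ := hst x hx
    refine ⟨T, h1, h3, ?_⟩
    by_contra hlt
    have h6 : Nat.card T ≤ 217 := by omega
    have h7 : Nat.card (ConjClasses T) ≤ 217 :=
      (Nat.card_le_card_of_surjective (ConjClasses.mk : T → ConjClasses T) ConjClasses.mk_surjective).trans h6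
    have h8 := Nat.mul_le_mul h6 h7
    rw [hc] at h4
    omega
  have hp : IsPGroup r E := fun y => ⟨1, Subtype.ext (by rw [pow_one, coe_pow]; exact (hEm _).1 y.2)⟩
  obtain ⟨n, hn⟩ := IsPGroup.iff_card.1 hp
  have h7 : 7 ≤ n := by
    refine seven_le ρ e hE h5 (AddCommGroup.zmodModule fun y => ?_) hn fun h0 => ?_
    · have h1 : (y.toMul) ^ r = 1 := Subtype.ext (by rw [coe_pow]; exact (hEm _).1 y.toMul.2)
      exact congrArg Additive.ofMul h1
    · -- the kernel of the action on `E`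
      let K : Subgroup X := (restr ρ hE).ker
      have hK : e.symm H36.M12.gt ∈ K := MonoidHom.mem_ker.2 h0
      rcases hsim.eq_bot_or_eq_top_of_normal K inferInstance with h3 | h3
      · rw [h3, mem_bot] at hK
        apply H36.M12.t_ne_one
        rw [← e.apply_symm_apply H36.M12.gt, hK, map_one]
      · obtain ⟨T, hT, hT1, -⟩ := hst x hx1
        refine hT1 (eq_top_iff.2 fun g _ => (hT g).2 ?_)
        have h4 : g ∈ K := by rw [h3]; exact mem_top g
        rw [MonoidHom.mem_ker] at h4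
        have h6 := DFunLike.congr_fun h4 (⟨x, (hEm x).2 hx⟩ : E)
        exact congrArg Subtype.val h6
  exact count hc h2 hg2 hg3 hst' hE hr h5 hn h7

end Cfsg.Agent.H394.S8
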